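import Cfsg.Agent.Lib.Lie.F4Graph.Tori
import Cfsg.Agent.Lib.Lie.Chev.Tw.Frob

/-!
# The element orders coming from the twisted products of `SL₂`'s and from the two Coxeter type tori
-/

set_option autoImplicit false
set_option maxRecDepth 100000
set_option maxHeartbeats 2000000
set_option linter.unusedSectionVars false

namespace CfsgLib.Lie.F4Graph

open Matrix Cfsg.Lie CfsgLib.Lie.Chev CfsgLib.Lie.CoxTorus CfsgLib.Lie.SL2Rel

/-- two homomorphisms with commuting images -/
def pairHom {G H : Type*} [Group G] [Group H] (f g : G →* H) (h : ∀ a b, Commute (f a) (g b)) : G →* H :=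
  MonoidHom.mk' (fun a => f a * g a) fun a b => by
    show f (a * b) * g (a * b) = f a * g a * (f b * g b)
    rw [map_mul, map_mul, mul_assoc, ← mul_assoc (f b), (h b a).eq, mul_assoc (g a), ← mul_assoc]

/-- a divisor is an element order -/
theorem order_of_dvd {G : Type*} [Group G] {A : G} {d N : ℕ} (hA : orderOf A = N) (hN : N ≠ 0) (hd : d ∣ N) :
    ∃ B : G, orderOf B = d := by
  refine ⟨A ^ (N / d), ?_⟩
  obtain ⟨e, rfl⟩ := hd
  have hd0 : d ≠ 0 := fun h => hN (by rw [h, zero_mul])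
  have he0 : e ≠ 0 := fun h => hN (by rw [h, mul_zero])
  rw [Nat.mul_div_cancel_left _ (Nat.pos_of_ne_zero hd0), orderOf_pow' _ he0, hA,
    Nat.gcd_eq_right (dvd_mul_left e d), Nat.mul_div_cancel _ (Nat.pos_of_ne_zero he0)]

theorem sl2_orders {K : Type*} [Field K] [Fintype K] {m : ℕ}
    (hm : m ∣ Fintype.card K - 1 ∨ m ∣ Fintype.card K + 1) :
    ∃ A : Matrix.SpecialLinearGroup (Fin 2) K, orderOf A = m := by
  rcases hm with hm | hm
  · obtain ⟨A, hA⟩ := CfsgLib.Classical.PSL2Spectrum.exists_order_sub_one (F := K)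
    exact order_of_dvd hA (by have := Fintype.one_lt_card (α := K); omega) hm
  · obtain ⟨A, hA⟩ := CfsgLib.Classical.PSL2Spectrum.exists_order_add_one (F := K)
    exact order_of_dvd hA (by omega) hm

theorem sl2_two {F : Type*} [Field F] [CharP F 2] :
    ∃ A : Matrix.SpecialLinearGroup (Fin 2) F, orderOf A = 2 := by
  haveI : Fact (Nat.Prime 2) := ⟨Nat.prime_two⟩
  refine ⟨Fam.upper 1, orderOf_eq_prime ?_ fun h => ?_⟩
  · refine Subtype.ext ?_
    rw [pow_two, Matrix.SpecialLinearGroup.coe_mul, Matrix.SpecialLinearGroup.coe_one]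
    ext a b
    fin_cases a <;> fin_cases b <;> simp [Fam.upper, Matrix.mul_apply, CharTwo.add_self_eq_zero]
  · simpa [Fam.upper] using congrArg (fun M : Matrix.SpecialLinearGroup (Fin 2) F => M.1 0 1) h

theorem apart_all : apartB 30 41 = true ∧ apartB 25 41 = true ∧ apartB 25 30 = true ∧ apartB 41 30 = true ∧
    apartB 47 25 = true ∧ apartB 47 41 = true ∧ apartB 47 30 = true := by
  decide +kernel

section Build

variable {F : Type*} [Field F] [Fintype F] [CharP F 2] {K : Type*} [Field K] [Fintype K] [CharP K 2]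
  (σ : K →+* K) (ι : F →+* K) (hfix : ∀ a, σ a = a → ∃ b, ι b = a) (hι : ∀ b, σ (ι b) = ι b)

local notation "S2" => Matrix.SpecialLinearGroup (Fin 2) K
local notation "mσ" => Matrix.SpecialLinearGroup.map (n := Fin 2) σ

include hfix hι

/-- the product of an element of the twisted product and one of the top `SL₂` -/
theorem assemble (h4 : 4 ≤ Nat.card K) {c n : GL chevF4.Idx K} (hc : c ∈ chevF4.group K)
    (hcn : fmap chevF4 σ c = c * n) (h0 : Moves n (rt 47) (rt 47)) (φ : S2 →* GL chevF4.Idx K)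
    (hφ : Function.Injective φ) (hmem : ∀ a, φ a ∈ chevF4.group K)
    (htw : ∀ a, n * fmap chevF4 σ (φ a) * n⁻¹ = φ a) (hcom : ∀ a b, Commute (rH (rt 47) b) (φ a))
    (A : S2) (B : Matrix.SpecialLinearGroup (Fin 2) F) (hco : (orderOf A).Coprime (orderOf B)) :
    ∃ g : ↥(chevF4.group F), orderOf g = orderOf A * orderOf B := by
  have hmi : Function.Injective (Matrix.SpecialLinearGroup.map (n := Fin 2) ι) := fun x y h =>
    Subtype.ext (Matrix.map_injective ι.injective (congrArg Subtype.val h))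
  set B' := Matrix.SpecialLinearGroup.map (n := Fin 2) ι B
  have hB' : mσ B' = B' := Subtype.ext (by ext i j; exact hι _)
  obtain ⟨g, hg⟩ := descend σ ι hfix hc (mul_mem (rH_mem (rt 47) B') (hmem A)) hcn (by
    calc n * fmap chevF4 σ (rH (rt 47) B' * φ A) * n⁻¹
        = (n * rH (rt 47) B' * n⁻¹) * (n * fmap chevF4 σ (φ A) * n⁻¹) := by
          rw [map_mul, rH_fmap, hB']; group
      _ = _ := by rw [rH_moves h0, htw])
  refine ⟨g, hg.trans ?_⟩
  have o1 : orderOf (rH (rt 47) B') = orderOf B := by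
    rw [orderOf_injective _ (rH_injective h4 _) B', orderOf_injective _ hmi B]
  have o2 := orderOf_injective _ hφ A
  rw [(hcom A B').orderOf_mul_eq_mul_orderOf_of_coprime (by rw [o1, o2]; exact hco.symm), o1, o2, mul_comm]

/-- the case of the quadratic extension -/
theorem twisted_two (hK : Fintype.card K = Fintype.card F ^ 2) (h2 : ∀ a, σ (σ a) = a)
    (A : S2) (B : Matrix.SpecialLinearGroup (Fin 2) F) (hco : (orderOf A).Coprime (orderOf B)) :
    ∃ g : ↥(chevF4.group F), orderOf g = orderOf A * orderOf B := by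
  classical
  have hq := Fintype.one_lt_card (α := F)
  have h4 : 4 ≤ Nat.card K := by
    rw [Nat.card_eq_fintype_card, hK]; nlinarith
  obtain ⟨θ, hθ⟩ : ∃ θ, σ θ ≠ θ := by
    by_contra h
    push Not at h
    have := Fintype.card_le_of_surjective ι fun a => hfix a (h a)
    rw [hK] at this
    nlinarith
  have hd : σ θ - θ ≠ 0 := sub_ne_zero.2 hθ
  set e := (σ θ - θ)⁻¹
  have hσe : σ e = e := by
    rw [map_inv₀, map_sub, h2]
    rw [CharTwo.sub_eq_add, add_comm, ← CharTwo.sub_eq_add]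
  set i₀ : Fin chevF4.rank := ⟨0, by decide +kernel⟩
  have hs : cF4.G.simp' i₀ = rt 33 := by decide +kernel
  let V : S2 := ⟨!![e, e; θ, σ θ], by
    rw [Matrix.det_fin_two_of]
    linear_combination inv_mul_cancel₀ hd⟩
  let J : S2 := Fam.upper 1 * Fam.lower (-1) * Fam.upper 1
  have hJ : rH (rt 33) J = cF4.G.nU i₀ := by
    rw [Good.nU, hs, map_mul, map_mul, rH_upper, rH_lower]
  have hV : mσ V = V * J := by
    refine Subtype.ext ?_
    show !![e, e; θ, σ θ].map σ = !![e, e; θ, σ θ] * (!![1, 1; 0, 1] * !![1, 0; -1, 1] * !![1, 1; 0, 1])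
    ext a b
    fin_cases a <;> fin_cases b <;>
      simp [Matrix.mul_apply, Fin.sum_univ_two, hσe, h2, CharTwo.neg_eq, CharTwo.add_self_eq_zero]
  let φ := pairHom (rH (rt 30)) ((rH (rt 41)).comp mσ) fun a b => rH_commute _ _ apart_all.1 a (mσ b)
  have hφ : Function.Injective φ := by
    rw [← MonoidHom.ker_eq_bot_iff, Subgroup.eq_bot_iff_forall]
    exact fun a ha => eq_one_of_prod h4 (rt 30) (fun b => rH_commute _ _ apart_all.1 b (mσ a)) ha
  have m30 : Moves (K := K) (cF4.G.nU i₀) (rt 30) (rt 41) := moves_nU i₀ 30 41 _ _ (by decide +kernel)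
  have m41 : Moves (K := K) (cF4.G.nU i₀) (rt 41) (rt 30) := moves_nU i₀ 41 30 _ _ (by decide +kernel)
  refine assemble σ ι hfix hι h4 (c := rH (rt 33) V) (n := cF4.G.nU i₀) (rH_mem _ _) ?_
    (moves_nU i₀ 47 47 _ _ (by decide +kernel)) φ hφ (fun a => mul_mem (rH_mem _ _) (rH_mem _ _))
    (fun a => ?_) (fun a b => (rH_commute _ _ apart_all.2.2.2.2.2.2 b a).mul_right
      (rH_commute _ _ apart_all.2.2.2.2.2.1 b (mσ a))) A B hco
  · rw [rH_fmap, hV, map_mul, hJ]
  · show cF4.G.nU i₀ * fmap chevF4 σ (rH (rt 30) a * rH (rt 41) (mσ a)) * (cF4.G.nU i₀)⁻¹ = _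
    have e2 : mσ (mσ a) = a := Subtype.ext (by ext i j; exact h2 _)
    rw [map_mul, rH_fmap, rH_fmap, e2]
    calc _ = (cF4.G.nU i₀ * rH (rt 30) (mσ a) * (cF4.G.nU i₀)⁻¹) *
          (cF4.G.nU i₀ * rH (rt 41) a * (cF4.G.nU i₀)⁻¹) := by group
      _ = rH (rt 41) (mσ a) * rH (rt 30) a := by rw [rH_moves m30, rH_moves m41]
      _ = _ := (rH_commute _ _ apart_all.1 a (mσ a)).eq.symm

omit hfix hι in
theorem triX_fmap (i j : Fin 3) (t : K) : fmap chevF4 σ (triX i j t) = triX i j (σ t) := by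
  by_cases h : i = j
  · simp [triX, h]
  · rw [triX_eq h, triX_eq h, cF4.G.fmap_xu]

/-- the case of the cubic extension -/
theorem twisted_three (hK : Fintype.card K = Fintype.card F ^ 3) (h3 : ∀ a, σ (σ (σ a)) = a)
    (A : S2) (B : Matrix.SpecialLinearGroup (Fin 2) F) (hco : (orderOf A).Coprime (orderOf B)) :
    ∃ g : ↥(chevF4.group F), orderOf g = orderOf A * orderOf B := by
  classical
  have hq := Fintype.one_lt_card (α := F)
  have h4 : 4 ≤ Nat.card K := by
    rw [Nat.card_eq_fintype_card, hK]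
    calc 4 ≤ 2 ^ 3 := by norm_num
      _ ≤ _ := Nat.pow_le_pow_left hq 3
  obtain ⟨θ, hθ⟩ : ∃ θ, σ θ ≠ θ := by
    by_contra h
    push Not at h
    have h1 := Fintype.card_le_of_surjective ι fun a => hfix a (h a)
    rw [hK] at h1
    have h2 : Fintype.card F ^ 1 < Fintype.card F ^ 3 := Nat.pow_lt_pow_right hq (by norm_num)
    rw [pow_one] at h2
    omega
  have hθ2 : σ (σ θ) ≠ θ := fun h => hθ (by have := h3 θ; rwa [h] at this)
  have hθ12 : σ (σ θ) ≠ σ θ := fun h => hθ (σ.injective h)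
  set a := θ with ha
  set b := σ θ with hb
  set c := σ (σ θ) with hcdef
  have hd : (b - a) * (c - a) * (c - b) ≠ 0 :=
    mul_ne_zero (mul_ne_zero (sub_ne_zero.2 hθ) (sub_ne_zero.2 hθ2)) (sub_ne_zero.2 hθ12)
  set e := ((b - a) * (c - a) * (c - b))⁻¹ with he
  have hσe : σ e = e := by
    rw [he, map_inv₀, map_mul, map_mul, map_sub, map_sub, map_sub]
    congr 1
    rw [show σ a = b from rfl, show σ b = c from rfl, show σ c = a from h3 θ]
    ring
  let V : Matrix.SpecialLinearGroup (Fin 3) K := ⟨!![e, e, e; a, b, c; a ^ 2, b ^ 2, c ^ 2], by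
    rw [Matrix.det_fin_three]
    simp
    linear_combination inv_mul_cancel₀ hd⟩
  obtain ⟨Φ, hΦ⟩ := exists_sl3 (K := K)
  let T := fun (i j : Fin 3) (h : i ≠ j) (t : K) => Matrix.SpecialLinearGroup.transvection h t
  let W01 := T 0 1 (by decide) 1 * T 1 0 (by decide) (-1) * T 0 1 (by decide) 1
  let W12 := T 1 2 (by decide) 1 * T 2 1 (by decide) (-1) * T 1 2 (by decide) 1
  set i₀ : Fin chevF4.rank := ⟨0, by decide +kernel⟩
  set i₁ : Fin chevF4.rank := ⟨1, by decide +kernel⟩
  have s0 : cF4.G.simp' i₀ = rt 33 := by decide +kernel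
  have s1 : cF4.G.simp' i₁ = rt 27 := by decide +kernel
  have n14 : cF4.G.negr (rt 33) = rt 14 := Fin.ext ((cF4.G.negr_val _).trans (by decide +kernel))
  have n20 : cF4.G.negr (rt 27) = rt 20 := Fin.ext ((cF4.G.negr_val _).trans (by decide +kernel))
  have hP : Φ (W01 * W12) = cF4.G.nU i₀ * cF4.G.nU i₁ := by
    simp only [W01, W12, T, map_mul, hΦ]
    rw [Good.nU, Good.nU, s0, s1, n14, n20, triX_eq, triX_eq, triX_eq, triX_eq] <;> first | rfl | decide
  have hPv : (W01 * W12).1 = !![0, 0, 1; 1, 0, 0; 0, 1, 0] := by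
    show (Matrix.transvection (0 : Fin 3) 1 (1 : K) * Matrix.transvection 1 0 (-1) *
      Matrix.transvection 0 1 1) * (Matrix.transvection 1 2 1 * Matrix.transvection 2 1 (-1) *
        Matrix.transvection 1 2 1) = _
    ext i j
    fin_cases i <;> fin_cases j <;>
      simp [Matrix.mul_apply, Fin.sum_univ_three, Matrix.transvection, Matrix.single, Matrix.one_apply,
        CharTwo.neg_eq, CharTwo.add_self_eq_zero]
  have hV : Matrix.SpecialLinearGroup.map σ V = V * (W01 * W12) := by
    refine Subtype.ext ?_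
    show (V.1).map σ = V.1 * (W01 * W12).1
    rw [hPv]
    simp only [V]
    ext i j
    fin_cases i <;> fin_cases j <;>
      simp [Matrix.mul_apply, Fin.sum_univ_three, hσe, map_pow, show σ a = b from rfl,
        show σ b = c from rfl, show σ c = a from h3 θ]
  have hnat : (fmap chevF4 σ).comp Φ = Φ.comp (Matrix.SpecialLinearGroup.map σ) := by
    refine CfsgLib.Char.SingleBond.sl_hom_ext fun i j h t => ?_
    have e' : Matrix.SpecialLinearGroup.map σ (Matrix.SpecialLinearGroup.transvection h t) =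
        Matrix.SpecialLinearGroup.transvection h (σ t) := Subtype.ext (by
      ext x y
      show σ _ = _
      simp [Matrix.SpecialLinearGroup.transvection, Matrix.transvection, Matrix.single, Matrix.one_apply]
      split_ifs <;> simp_all)
    rw [MonoidHom.comp_apply, MonoidHom.comp_apply, e', hΦ, hΦ, triX_fmap]
  set n := cF4.G.nU (K := K) i₀ * cF4.G.nU i₁ with hn
  have m25 : Moves (K := K) n (rt 25) (rt 41) :=
    Moves.mul (b := rt 30) (moves_nU i₀ 30 41 _ _ (by decide +kernel)) (moves_nU i₁ 25 30 _ _ (by decide +kernel))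
  have m41 : Moves (K := K) n (rt 41) (rt 30) :=
    Moves.mul (b := rt 41) (moves_nU i₀ 41 30 _ _ (by decide +kernel)) (moves_nU i₁ 41 41 _ _ (by decide +kernel))
  have m30 : Moves (K := K) n (rt 30) (rt 25) :=
    Moves.mul (b := rt 25) (moves_nU i₀ 25 25 _ _ (by decide +kernel)) (moves_nU i₁ 30 25 _ _ (by decide +kernel))
  have m47 : Moves (K := K) n (rt 47) (rt 47) :=
    Moves.mul (b := rt 47) (moves_nU i₀ 47 47 _ _ (by decide +kernel)) (moves_nU i₁ 47 47 _ _ (by decide +kernel))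
  obtain ⟨-, c1, c2, c3, c4, c5, c6⟩ := apart_all
  let ψ := pairHom (rH (rt 25)) ((rH (rt 41)).comp mσ) fun x y => rH_commute _ _ c1 x (mσ y)
  let φ := pairHom ψ ((rH (rt 30)).comp ((mσ).comp mσ)) fun x y =>
    Commute.mul_left (rH_commute _ _ c2 x _) (rH_commute _ _ c3 (mσ x) _)
  have hφ : Function.Injective φ := by
    rw [← MonoidHom.ker_eq_bot_iff, Subgroup.eq_bot_iff_forall]
    intro x hx
    refine eq_one_of_prod h4 (rt 25) (y := rH (rt 41) (mσ x) * rH (rt 30) (mσ (mσ x)))
      (fun y => (rH_commute _ _ c1 y _).mul_right (rH_commute _ _ c2 y _)) ?_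
    rw [← mul_assoc]
    exact hx
  have hmem : Φ V ∈ chevF4.group K := by
    have : ∀ x, Φ x ∈ chevF4.group K := by
      intro x
      have ht : (chevF4.group K).comap Φ = ⊤ := CfsgLib.Classical.sl_eq_top _ fun i j h t => by
        show Φ _ ∈ chevF4.group K
        rw [hΦ, triX_eq h]
        exact cF4.G.xu_mem _ _
      exact (ht.symm ▸ Subgroup.mem_top x : x ∈ (chevF4.group K).comap Φ)
    exact this V
  refine assemble σ ι hfix hι h4 (c := Φ V) (n := n) hmem ?_ m47 φ hφ
    (fun x => mul_mem (mul_mem (rH_mem _ _) (rH_mem _ _)) (rH_mem _ _)) (fun x => ?_)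
    (fun x y => ((rH_commute _ _ c4 y x).mul_right (rH_commute _ _ c5 y _)).mul_right
      (rH_commute _ _ c6 y _)) A B hco
  · have := congrArg (fun f : Matrix.SpecialLinearGroup (Fin 3) K →* GL chevF4.Idx K => f V) hnat
    simp only [MonoidHom.comp_apply] at this
    rw [this, hV, map_mul, hP, hn]
  · show n * fmap chevF4 σ (rH (rt 25) x * rH (rt 41) (mσ x) * rH (rt 30) (mσ (mσ x))) * n⁻¹ = _
    have e3 : mσ (mσ (mσ x)) = x := Subtype.ext (by ext i j; exact h3 _)
    rw [map_mul, map_mul, rH_fmap, rH_fmap, rH_fmap, e3]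
    calc _ = (n * rH (rt 25) (mσ x) * n⁻¹) * (n * rH (rt 41) (mσ (mσ x)) * n⁻¹) *
          (n * rH (rt 30) x * n⁻¹) := by group
      _ = rH (rt 41) (mσ x) * rH (rt 30) (mσ (mσ x)) * rH (rt 25) x := by
          rw [rH_moves m25, rH_moves m41, rH_moves m30]
      _ = rH (rt 25) x * (rH (rt 41) (mσ x) * rH (rt 30) (mσ (mσ x))) :=
          (((rH_commute _ _ c1 x _).mul_right (rH_commute _ _ c2 x _)).eq).symm
      _ = _ := (mul_assoc _ _ _).symm

end Build

/-- the orders coming from the two twisted products -/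
theorem exists_product {F : Type*} [Field F] [Fintype F] [CharP F 2] {k m j : ℕ} (hk : k = 2 ∨ k = 3)
    (hm : m ∣ Fintype.card F ^ k - 1 ∨ m ∣ Fintype.card F ^ k + 1)
    (hj : j ∣ Fintype.card F - 1 ∨ j ∣ Fintype.card F + 1 ∨ j = 2) (hco : m.Coprime j) :
    ∃ g : ↥(chevF4.group F), orderOf g = m * j := by
  classical
  haveI : NeZero k := ⟨by omega⟩
  haveI : Fact (Nat.Prime 2) := ⟨Nat.prime_two⟩
  set q := Fintype.card F with hq
  let K := FiniteField.Extension F 2 k
  letI : Fintype K := Fintype.ofFinite K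
  have hcard : Fintype.card K = q ^ k := by
    rw [Fintype.card_eq_nat_card, FiniteField.natCard_extension, hq, Fintype.card_eq_nat_card]
  let ι : F →+* K := algebraMap F K
  haveI : CharP K 2 := charP_of_injective_ringHom ι.injective 2
  let σ : K →+* K := (FiniteField.Extension.frob F 2 k).toRingEquiv.toRingHom
  have hσ : ∀ a : K, σ a = a ^ q := fun a => by
    rw [hq, Fintype.card_eq_nat_card]
    exact FiniteField.Extension.frob_apply F 2 k
  have hι : ∀ b, σ (ι b) = ι b := fun b => (FiniteField.Extension.frob F 2 k).commutes b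
  have hfix : ∀ a, σ a = a → ∃ b, ι b = a := fun a ha => by
    haveI : IsGalois F K := inferInstance
    show a ∈ Set.range (algebraMap F K)
    rw [IsGalois.mem_range_algebraMap_iff_fixed]
    intro g
    obtain ⟨i, -, rfl⟩ := FiniteField.Extension.exists_frob_pow_eq F 2 k g
    induction i with
    | zero => rfl
    | succ i ih => rw [pow_succ', AlgEquiv.mul_apply, ih]; exact ha
  have hpow : ∀ a : K, a ^ q ^ k = a := fun a => by rw [← hcard]; exact FiniteField.pow_card a
  obtain ⟨A, hA⟩ := sl2_orders (K := K) (m := m) (by rwa [hcard])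
  obtain ⟨B, hB⟩ : ∃ B : Matrix.SpecialLinearGroup (Fin 2) F, orderOf B = j := by
    rcases hj with hj | hj | rfl
    · exact sl2_orders (Or.inl hj)
    · exact sl2_orders (Or.inr hj)
    · exact sl2_two
  obtain ⟨g, hg⟩ : ∃ g : ↥(chevF4.group F), orderOf g = orderOf A * orderOf B := by
    rcases hk with rfl | rfl
    · exact twisted_two σ ι hfix hι hcard
        (fun a => by rw [hσ, hσ, ← pow_mul, ← pow_two]; exact hpow a) A B (by rwa [hA, hB])
    · exact twisted_three σ ι hfix hι hcard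
        (fun a => by rw [hσ, hσ, hσ, ← pow_mul, ← pow_mul, show q * (q * q) = q ^ 3 by ring]; exact hpow a)
        A B (by rwa [hA, hB])
  exact ⟨g, by rw [hg, hA, hB]⟩

theorem eval_twelve (x : ℤ) : (Polynomial.cyclotomic 12 ℤ).eval x = x ^ 4 - x ^ 2 + 1 := by
  rw [show (12 : ℕ) = 6 * 2 from rfl,
    ← Polynomial.cyclotomic_expand_eq_cyclotomic Nat.prime_two (by norm_num : 2 ∣ 6) ℤ,
    Polynomial.cyclotomic_six]
  simp
  ring

/-- the centraliser of an element of order `r` when `q` has order `8` or `12` modulo `r` -/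
theorem cox_facts {F : Type*} [Field F] [Fintype F] [CharP F 2] {r : ℕ} (hr : r.Prime) {h : ℕ}
    (hh : h = 8 ∨ h = 12) (he : orderOf ((Fintype.card F : ℕ) : ZMod r) = h) :
    (∃ x : ↥(chevF4.group F), orderOf x = r) ∧ ∀ x : ↥(chevF4.group F), orderOf x = r →
      IsCyclic ↥(Subgroup.centralizer {x}) ∧
        Nat.card ↥(Subgroup.centralizer {x}) =
          ((Polynomial.cyclotomic h ℤ).eval (Fintype.card F : ℤ)).natAbs := by
  haveI := Fact.mk hr
  set q := Fintype.card F with hq
  have hprim : IsPrimitiveRoot ((q : ℕ) : ZMod r) h := he ▸ IsPrimitiveRoot.orderOf _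
  have hne : ((q : ℕ) : ZMod r) ≠ 0 := hprim.ne_zero (by omega)
  have hdvd : h ∣ r - 1 := he ▸ ZMod.orderOf_dvd_card_sub_one hne
  have h2r := hr.two_le
  have hr13 : 13 ≤ r := by
    rcases hh with rfl | rfl
    · have : 9 ≤ r := by have := Nat.le_of_dvd (by omega) hdvd; omega
      rcases hr.eq_two_or_odd with e | e
      · omega
      · by_contra hlt
        interval_cases r <;> first | omega | norm_num at hr
    · have := Nat.le_of_dvd (by omega) hdvd; omega
  have hrdg : ∀ i : Fin chevF4.rank, ¬ r ∣ vecOfList [2, 6, 8, 12] i := fun i hd => by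
    have hb : ∀ i : Fin chevF4.rank, 0 < vecOfList [2, 6, 8, 12] i ∧ vecOfList [2, 6, 8, 12] i < 13 := by
      decide +kernel
    exact absurd (Nat.le_of_dvd (hb i).1 hd) (by have := (hb i).2; omega)
  have htot : Nat.totient h = chevF4.rank := by rcases hh with rfl | rfl <;> decide +kernel
  have hdeg : ∃ i : Fin chevF4.rank, h ∣ vecOfList [2, 6, 8, 12] i := by
    rcases hh with rfl | rfl
    · exact ⟨⟨2, by decide +kernel⟩, by decide +kernel⟩
    · exact ⟨⟨3, by decide +kernel⟩, by decide +kernel⟩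
  refine ⟨exists_prime_order cF4 kerF4_ok rfl degF4 hr (by omega) hdeg hprim, fun x hx => ?_⟩
  have h2q : 2 ∣ q := by
    obtain ⟨n, -, hn⟩ := FiniteField.card F 2
    rw [hq, hn]; exact dvd_pow_self 2 n.pos.ne'
  have := cox_centralizer cF4 kerF4_ok rfl degF4 (h := h) (by omega) htot hr hrdg uF4 uF4_tri
    (vecOfList [3, 1, 2, 6]) (B := 24) (by unfold qlen; decide +kernel)
    (bound_mono (r₀ := 13) (by decide +kernel) hr13) hprim (fun ℓ hℓ hℓh hd => by
      have hd' : ((ℓ : ℤ)) ∣ (Polynomial.cyclotomic h ℤ).eval (q : ℤ) :=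
        Int.natCast_dvd.2 ((dvd_pow_self ℓ two_ne_zero).trans hd)
      rw [← ZMod.intCast_zmod_eq_zero_iff_dvd] at hd'
      have h2 : ((q : ℕ) : ZMod 2) = 0 := (ZMod.natCast_eq_zero_iff _ _).2 h2q
      rcases hh with rfl | rfl
      · obtain rfl : ℓ = 2 := (Nat.prime_dvd_prime_iff_eq hℓ Nat.prime_two).1
          (hℓ.dvd_of_dvd_pow (show ℓ ∣ 2 ^ 3 from hℓh))
        rw [eval_cyclotomic_eight] at hd'
        push_cast at hd'
        rw [h2] at hd'
        exact absurd hd' (by decide)
      · rw [eval_twelve] at hd'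
        push_cast at hd'
        rcases (Nat.Prime.dvd_mul hℓ).1 (show ℓ ∣ 2 ^ 2 * 3 from hℓh) with e | e
        · obtain rfl : ℓ = 2 := (Nat.prime_dvd_prime_iff_eq hℓ Nat.prime_two).1 (hℓ.dvd_of_dvd_pow e)
          rw [h2] at hd'
          exact absurd hd' (by decide)
        · obtain rfl : ℓ = 3 := (Nat.prime_dvd_prime_iff_eq hℓ Nat.prime_three).1 e
          have key : ∀ y : ZMod 3, y ^ 4 - y ^ 2 + 1 ≠ 0 := by decide
          exact key _ hd') x hx
  exact ⟨this.1, this.2.1⟩

end CfsgLib.Lie.F4Graph
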