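import Cfsg.Agent.Lib.Lie.F4Graph.Weyl
import Cfsg.Agent.Lib.Lie.F4Graph.Exist

/-!
# The prime graph of `F₄(q)`, `q` even
-/

set_option autoImplicit false
set_option maxRecDepth 100000
set_option maxHeartbeats 2000000

namespace CfsgLib.Lie.F4Graph

open Cfsg.Lie CfsgLib.Lie.Chev CfsgLib.Lie.CoxTorus

variable {F : Type*} [Field F] [Fintype F] [CharP F 2]

local notation "qF" => Fintype.card F

theorem two_dvd_card : 2 ∣ qF := by
  haveI : Fact (Nat.Prime 2) := ⟨Nat.prime_two⟩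
  obtain ⟨n, -, hn⟩ := FiniteField.card F 2
  rw [hn]; exact dvd_pow_self 2 n.pos.ne'

theorem q_ne {r : ℕ} (hr : r.Prime) (h2 : r ≠ 2) : ((qF : ℕ) : ZMod r) ≠ 0 := by
  haveI : Fact (Nat.Prime 2) := ⟨Nat.prime_two⟩
  obtain ⟨n, -, hn⟩ := FiniteField.card F 2
  intro h
  rw [ZMod.natCast_eq_zero_iff, hn] at h
  exact h2 ((Nat.prime_dvd_prime_iff_eq hr Nat.prime_two).1 (hr.dvd_of_dvd_pow h))

/-- the possible orders of `q` modulo a prime dividing the group order -/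
theorem order_cases {r : ℕ} (hr : r.Prime) (h2 : r ≠ 2) (hd : r ∣ Nat.card ↥(chevF4.group F)) :
    let e := orderOf ((qF : ℕ) : ZMod r)
    e = 1 ∨ e = 2 ∨ e = 3 ∨ e = 4 ∨ e = 6 ∨ e = 8 ∨ e = 12 := by
  intro e
  haveI := Fact.mk hr
  classical
  have h1 := congrArg (Int.cast : ℤ → ZMod r) (card_group_eq cF4 kerF4_ok rfl (K := F) degF4)
  push_cast at h1
  rw [(ZMod.natCast_eq_zero_iff _ _).2 hd, eq_comm] at h1
  rcases mul_eq_zero.1 h1 with h | h
  · exact absurd (pow_eq_zero_iff'.1 h).1 (q_ne hr h2)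
  have hdd : e ∣ 8 ∨ e ∣ 12 := by
    rcases mul_eq_zero.1 h with h | h
    · obtain ⟨i, -, hi⟩ := Finset.prod_eq_zero_iff.1 h
      have h3 := geom_sum_mul ((qF : ℕ) : ZMod r) (vecOfList [2, 6, 8, 12] i)
      rw [hi, zero_mul, eq_comm, sub_eq_zero] at h3
      have he : e ∣ vecOfList [2, 6, 8, 12] i := orderOf_dvd_of_pow_eq_one h3
      have hb : ∀ i : Fin chevF4.rank, vecOfList [2, 6, 8, 12] i ∣ 8 ∨ vecOfList [2, 6, 8, 12] i ∣ 12 := by
        decide +kernel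
      exact (hb i).imp he.trans he.trans
    · have : ((qF : ℕ) : ZMod r) = 1 := sub_eq_zero.1 (pow_eq_zero_iff'.1 h).1
      left
      show orderOf _ ∣ 8
      rw [this, orderOf_one]
      exact one_dvd 8
  rcases hdd with h | h <;> have := Nat.le_of_dvd (by norm_num) h <;> interval_cases e <;>
    first | omega | norm_num at h

theorem dvd_sub_one_of_order {r e : ℕ} (he : orderOf ((qF : ℕ) : ZMod r) = e) : r ∣ qF ^ e - 1 := by
  rw [← ZMod.natCast_eq_zero_iff, Nat.cast_sub (Nat.one_le_pow _ _ Fintype.card_pos), Nat.cast_pow,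
    Nat.cast_one, sub_eq_zero, ← he]
  exact pow_orderOf_eq_one _

theorem dvd_add_one_of_order {r e : ℕ} (hr : r.Prime) (he : orderOf ((qF : ℕ) : ZMod r) = 2 * e)
    (he0 : e ≠ 0) : r ∣ qF ^ e + 1 := by
  haveI := Fact.mk hr
  have h1 : (((qF : ℕ) : ZMod r) ^ e) ^ 2 = 1 := by rw [← pow_mul, mul_comm, ← he]; exact pow_orderOf_eq_one _
  have h2 : ((qF : ℕ) : ZMod r) ^ e ≠ 1 := fun h => by
    have := Nat.le_of_dvd (Nat.pos_of_ne_zero he0) (orderOf_dvd_of_pow_eq_one h)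
    omega
  rw [← ZMod.natCast_eq_zero_iff]
  push_cast
  rw [pow_two] at h1
  rcases mul_self_eq_one_iff.1 h1 with h | h
  · exact absurd h h2
  · rw [h, neg_add_cancel]

/-- the extension carrying a prime of small order -/
theorem small_div {r : ℕ} (hr : r.Prime) {e : ℕ} (he : orderOf ((qF : ℕ) : ZMod r) = e)
    (hs : e = 1 ∨ e = 2 ∨ e = 3 ∨ e = 4 ∨ e = 6) :
    ∃ k, (k = 2 ∨ k = 3) ∧ (r ∣ qF ^ k - 1 ∨ r ∣ qF ^ k + 1) := by
  rcases hs with rfl | rfl | rfl | rfl | rfl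
  · refine ⟨2, Or.inl rfl, Or.inl ((dvd_sub_one_of_order he).trans ?_)⟩
    exact Nat.pow_sub_one_dvd_pow_sub_one qF (by norm_num)
  · exact ⟨2, Or.inl rfl, Or.inl (dvd_sub_one_of_order he)⟩
  · exact ⟨3, Or.inr rfl, Or.inl (dvd_sub_one_of_order he)⟩
  · exact ⟨2, Or.inl rfl, Or.inr (dvd_add_one_of_order hr (e := 2) he two_ne_zero)⟩
  · exact ⟨3, Or.inr rfl, Or.inr (dvd_add_one_of_order hr (e := 3) he three_ne_zero)⟩

theorem linear_div {r : ℕ} (hr : r.Prime) {e : ℕ} (he : orderOf ((qF : ℕ) : ZMod r) = e)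
    (hs : e = 1 ∨ e = 2) : r ∣ qF - 1 ∨ r ∣ qF + 1 := by
  rcases hs with rfl | rfl
  · exact Or.inl (by simpa using dvd_sub_one_of_order he)
  · exact Or.inr (by simpa using dvd_add_one_of_order hr (e := 1) he one_ne_zero)

theorem adj_small {r s : ℕ} (hs : s.Prime) (hr : r.Prime) (hrs : r ≠ s)
    (hj : r = 2 ∨ r ∣ qF - 1 ∨ r ∣ qF + 1) {e : ℕ} (he : orderOf ((qF : ℕ) : ZMod s) = e)
    (he' : e = 1 ∨ e = 2 ∨ e = 3 ∨ e = 4 ∨ e = 6) : ∃ g : ↥(chevF4.group F), orderOf g = r * s := by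
  obtain ⟨k, hk, hm⟩ := small_div hs he he'
  obtain ⟨g, hg⟩ := exists_product (F := F) hk hm (j := r) (by tauto) ((Nat.coprime_primes hs hr).2 hrs.symm)
  exact ⟨g, by rw [hg, mul_comm]⟩

theorem adj_equal {r s : ℕ} (hs : s.Prime) (hr : r.Prime) (hrs : r ≠ s) {e : ℕ}
    (her : orderOf ((qF : ℕ) : ZMod r) = e) (hes : orderOf ((qF : ℕ) : ZMod s) = e)
    (he : e = 3 ∨ e = 4 ∨ e = 6) : ∃ g : ↥(chevF4.group F), orderOf g = r * s := by
  have hco := (Nat.coprime_primes hr hs).2 hrs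
  obtain ⟨k, hk, hm⟩ : ∃ k, (k = 2 ∨ k = 3) ∧ (r * s ∣ qF ^ k - 1 ∨ r * s ∣ qF ^ k + 1) := by
    rcases he with rfl | rfl | rfl
    · exact ⟨3, Or.inr rfl, Or.inl (hco.mul_dvd_of_dvd_of_dvd (dvd_sub_one_of_order her) (dvd_sub_one_of_order hes))⟩
    · exact ⟨2, Or.inl rfl, Or.inr (hco.mul_dvd_of_dvd_of_dvd (dvd_add_one_of_order hr (e := 2) her two_ne_zero)
        (dvd_add_one_of_order hs (e := 2) hes two_ne_zero))⟩
    · exact ⟨3, Or.inr rfl, Or.inr (hco.mul_dvd_of_dvd_of_dvd (dvd_add_one_of_order hr (e := 3) her three_ne_zero)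
        (dvd_add_one_of_order hs (e := 3) hes three_ne_zero))⟩
  obtain ⟨g, hg⟩ := exists_product (F := F) hk hm (j := 1) (Or.inl (one_dvd _)) (Nat.coprime_one_right _)
  exact ⟨g, by rw [hg, mul_one]⟩

theorem twelve_mod_three : ∀ y : ZMod 3, y ^ 4 - y ^ 2 + 1 ≠ 0 := by decide

/-- primes dividing the order of the torus of Coxeter type -/
theorem dvd_eval_iff {r h : ℕ} (hr : r.Prime) (hh : h = 8 ∨ h = 12) :
    r ∣ ((Polynomial.cyclotomic h ℤ).eval (qF : ℤ)).natAbs ↔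
      r ≠ 2 ∧ orderOf ((qF : ℕ) : ZMod r) = h := by
  haveI := Fact.mk hr
  have h20 : ((qF : ℕ) : ZMod 2) = 0 := (ZMod.natCast_eq_zero_iff _ _).2 two_dvd_card
  refine ⟨fun hd => ?_, fun ⟨h2, he⟩ => ?_⟩
  · have hd' : (r : ℤ) ∣ (Polynomial.cyclotomic h ℤ).eval (qF : ℤ) := Int.natCast_dvd.2 hd
    have hrh : ¬ r ∣ h := by
      intro hdh
      have hz := (ZMod.intCast_zmod_eq_zero_iff_dvd _ _).2 hd'
      rcases hh with rfl | rfl
      · obtain rfl : r = 2 := (Nat.prime_dvd_prime_iff_eq hr Nat.prime_two).1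
          (hr.dvd_of_dvd_pow (show r ∣ 2 ^ 3 from hdh))
        rw [eval_cyclotomic_eight] at hz
        push_cast at hz
        rw [h20] at hz
        simp at hz
      · rw [eval_twelve] at hz
        push_cast at hz
        rcases (Nat.Prime.dvd_mul hr).1 (show r ∣ 2 ^ 2 * 3 from hdh) with e | e
        · obtain rfl : r = 2 := (Nat.prime_dvd_prime_iff_eq hr Nat.prime_two).1 (hr.dvd_of_dvd_pow e)
          rw [h20] at hz
          simp at hz
        · obtain rfl : r = 3 := (Nat.prime_dvd_prime_iff_eq hr Nat.prime_three).1 e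
          exact twelve_mod_three _ hz
    refine ⟨fun h2 => hrh ?_, (primitive_of_dvd_eval hr hrh hd').1.eq_orderOf.symm⟩
    subst h2
    rcases hh with rfl | rfl <;> norm_num
  · have hprim : IsPrimitiveRoot ((qF : ℕ) : ZMod r) h := he ▸ IsPrimitiveRoot.orderOf _
    have hle : h ≤ r - 1 := he ▸ Nat.le_of_dvd (by have := hr.two_le; omega)
      (ZMod.orderOf_dvd_card_sub_one (q_ne hr h2))
    haveI : NeZero (h : ZMod r) := ⟨fun e => by
      have := Nat.le_of_dvd (by omega) ((ZMod.natCast_eq_zero_iff _ _).1 e)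
      omega⟩
    have h1 := Polynomial.isRoot_cyclotomic_iff.2 hprim
    rw [Polynomial.IsRoot, ← Polynomial.map_cyclotomic h (Int.castRingHom (ZMod r)), ← Int.cast_natCast,
      Polynomial.eval_intCast_map, eq_intCast, ZMod.intCast_zmod_eq_zero_iff_dvd] at h1
    exact Int.natCast_dvd.1 h1

theorem adj_cox {r s : ℕ} (hs : s.Prime) (hr : r.Prime) (hs2 : s ≠ 2) (hrs : r ≠ s) {e : ℕ}
    (hh : e = 8 ∨ e = 12) (her : orderOf ((qF : ℕ) : ZMod r) = e) (hes : orderOf ((qF : ℕ) : ZMod s) = e) :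
    ∃ g : ↥(chevF4.group F), orderOf g = r * s := by
  obtain ⟨⟨x, hx⟩, hC⟩ := cox_facts hr hh her
  obtain ⟨hcyc, hcard⟩ := hC x hx
  haveI := hcyc
  obtain ⟨c, hc⟩ := IsCyclic.exists_ofOrder_eq_natCard (α := Subgroup.centralizer {x})
  have hs1 : s ∣ Nat.card ↥(Subgroup.centralizer {x}) := by
    rw [hcard]; exact (dvd_eval_iff hs hh).2 ⟨hs2, hes⟩
  have hr1 : r ∣ Nat.card ↥(Subgroup.centralizer {x}) := by
    have h := Subgroup.orderOf_dvd_natCard (Subgroup.centralizer {x})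
      (Subgroup.mem_centralizer_singleton_iff.2 rfl)
    rwa [hx] at h
  classical
  haveI : Finite (GL chevF4.Idx F) := inferInstance
  obtain ⟨g, hg⟩ := order_of_dvd hc Nat.card_pos.ne'
    (((Nat.coprime_primes hr hs).2 hrs).mul_dvd_of_dvd_of_dvd hr1 hs1)
  exact ⟨g, by rw [← hg, Subgroup.orderOf_coe]⟩

/-- isolation of the primes of the Coxeter type tori -/
theorem not_adj_cox {r s : ℕ} (hs : s.Prime) (hr : r.Prime) {e : ℕ} (hh : e = 8 ∨ e = 12)
    (hes : orderOf ((qF : ℕ) : ZMod s) = e) (hne : r = 2 ∨ orderOf ((qF : ℕ) : ZMod r) ≠ e) :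
    ¬ ∃ g : ↥(chevF4.group F), orderOf g = r * s := by
  rintro ⟨g, hg⟩
  classical
  haveI : Finite (GL chevF4.Idx F) := inferInstance
  have ox : orderOf (g ^ r) = s := by
    rw [orderOf_pow' _ hr.ne_zero, hg, Nat.gcd_eq_right (dvd_mul_right r s),
      Nat.mul_div_cancel_left _ hr.pos]
  have hd := Subgroup.orderOf_dvd_natCard (Subgroup.centralizer {g ^ r})
    (Subgroup.mem_centralizer_singleton_iff.2 ((Commute.refl g).pow_right r).eq)
  rw [hg, ((cox_facts hs hh hes).2 _ ox).2] at hd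
  obtain ⟨h2, he⟩ := (dvd_eval_iff hr hh).1 ((dvd_mul_right r s).trans hd)
  exact hne.elim h2 fun h => h he

theorem not_adj_weyl {r s : ℕ} (hr : r.Prime) (hs : s.Prime) (hr2 : r ≠ 2) (hs2 : s ≠ 2)
    (hcase : (orderOf ((qF : ℕ) : ZMod r) = 3 ∧ orderOf ((qF : ℕ) : ZMod s) = 4) ∨
      (orderOf ((qF : ℕ) : ZMod r) = 3 ∧ orderOf ((qF : ℕ) : ZMod s) = 6) ∨
      (orderOf ((qF : ℕ) : ZMod r) = 4 ∧ orderOf ((qF : ℕ) : ZMod s) = 6)) :
    ¬ ∃ g : ↥(chevF4.group F), orderOf g = r * s := by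
  have big : ∀ {p : ℕ}, p.Prime → p ≠ 2 → 3 ≤ orderOf ((qF : ℕ) : ZMod p) → 5 ≤ p := by
    intro p hp hp2 h3
    haveI := Fact.mk hp
    have h1 := Nat.le_of_dvd (by have := hp.two_le; omega) (ZMod.orderOf_dvd_card_sub_one (q_ne (F := F) hp hp2))
    by_contra h
    have := hp.two_le
    interval_cases p <;> first | omega | norm_num at hp
  refine no_order hr hs (fun e => ?_) (big hr hr2 (by omega)) (big hs hs2 (by omega)) hcase
  subst e
  omega

/-- the adjacency criterion -/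
theorem adjacent_iff {r s : ℕ} (hr : r.Prime) (hs : s.Prime) (hrs : r ≠ s)
    (hrG : r ∣ Nat.card ↥(chevF4.group F)) (hsG : s ∣ Nat.card ↥(chevF4.group F)) :
    (¬ ∃ x : ↥(chevF4.group F), orderOf x = r * s) ↔
      ((r = 2 ∧ orderOf ((qF : ℕ) : ZMod s) ∈ ({8, 12} : Finset ℕ)) ∨
       (s = 2 ∧ orderOf ((qF : ℕ) : ZMod r) ∈ ({8, 12} : Finset ℕ)) ∨
       (r ≠ 2 ∧ s ≠ 2 ∧
         ((orderOf ((qF : ℕ) : ZMod r) < orderOf ((qF : ℕ) : ZMod s) ∧
            (orderOf ((qF : ℕ) : ZMod s) ∈ ({8, 12} : Finset ℕ) ∨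
            (orderOf ((qF : ℕ) : ZMod s) = 6 ∧ orderOf ((qF : ℕ) : ZMod r) ∈ ({3, 4} : Finset ℕ)) ∨
            (orderOf ((qF : ℕ) : ZMod s) = 4 ∧ orderOf ((qF : ℕ) : ZMod r) = 3))) ∨
          (orderOf ((qF : ℕ) : ZMod s) < orderOf ((qF : ℕ) : ZMod r) ∧
            (orderOf ((qF : ℕ) : ZMod r) ∈ ({8, 12} : Finset ℕ) ∨
            (orderOf ((qF : ℕ) : ZMod r) = 6 ∧ orderOf ((qF : ℕ) : ZMod s) ∈ ({3, 4} : Finset ℕ)) ∨
            (orderOf ((qF : ℕ) : ZMod r) = 4 ∧ orderOf ((qF : ℕ) : ZMod s) = 3)))))) := by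
  simp only [Finset.mem_insert, Finset.mem_singleton]
  have symm : ∀ {a b : ℕ}, (¬ ∃ x : ↥(chevF4.group F), orderOf x = a * b) →
      ¬ ∃ x : ↥(chevF4.group F), orderOf x = b * a := fun h => by rwa [mul_comm] at h
  set k := orderOf ((qF : ℕ) : ZMod r) with hk
  set l := orderOf ((qF : ℕ) : ZMod s) with hl
  constructor
  · intro hno
    by_contra hR
    simp only [not_or, not_and] at hR
    obtain ⟨R1, R2, R3⟩ := hR
    rcases eq_or_ne r 2 with r2 | r2
    · have hl' := order_cases hs (fun e => hrs (r2.trans e.symm)) hsG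
      have := R1 r2
      exact hno (adj_small hs hr hrs (Or.inl r2) hl.symm (by simp only [← hl] at hl'; omega))
    rcases eq_or_ne s 2 with s2 | s2
    · have hk' := order_cases hr r2 hrG
      have := R2 s2
      exact symm hno (adj_small hr hs hrs.symm (Or.inl s2) hk.symm (by simp only [← hk] at hk'; omega))
    have hk' := order_cases hr r2 hrG
    have hl' := order_cases hs s2 hsG
    simp only [← hk] at hk'
    simp only [← hl] at hl'
    obtain ⟨R3a, R3b⟩ := R3 r2 s2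
    by_cases ek : k = 1 ∨ k = 2
    · exact hno (adj_small hs hr hrs (Or.inr (linear_div hr hk.symm ek)) hl.symm (by omega))
    by_cases el : l = 1 ∨ l = 2
    · exact symm hno (adj_small hr hs hrs.symm (Or.inr (linear_div hs hl.symm el)) hk.symm (by omega))
    by_cases hkl : k = l
    · by_cases hc : k = 8 ∨ k = 12
      · exact hno (adj_cox hs hr s2 hrs hc hk.symm (hl.symm.trans hkl.symm))
      · exact hno (adj_equal hs hr hrs hk.symm (hl.symm.trans hkl.symm) (by omega))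
    omega
  · rintro (⟨h2, hl'⟩ | ⟨h2, hk'⟩ | ⟨r2, s2, ⟨hlt, h⟩ | ⟨hlt, h⟩⟩)
    · exact not_adj_cox hs hr hl' rfl (Or.inl h2)
    · exact symm (not_adj_cox hr hs hk' rfl (Or.inl h2))
    · rcases h with h | h | h
      · exact not_adj_cox hs hr h rfl (Or.inr hlt.ne)
      · exact not_adj_weyl hr hs r2 s2 (by omega)
      · exact not_adj_weyl hr hs r2 s2 (by omega)
    · rcases h with h | h | h
      · exact symm (not_adj_cox hr hs h rfl (Or.inr hlt.ne))
      · exact symm (not_adj_weyl hs hr s2 r2 (by omega))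
      · exact symm (not_adj_weyl hs hr s2 r2 (by omega))

end CfsgLib.Lie.F4Graph
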