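import Cfsg.Agent.Lib.Lie.Chev.CoxTorus.Data
import Cfsg.Agent.Lib.Lie.Chev.SL2Root
import Cfsg.Agent.Lib.Lie.Chev.Tw.Tools
import Cfsg.Agent.Lib.Char.SingleBond.SteinbergHom
import Cfsg.Agent.Lib.Classical.PSL2Spectrum
import Cfsg.Agent.Lib.Perm.Dickson.Minimal

/-!
# Elements of composite order in `F₄(q)`, `q` even

Two or three `SL₂`'s of orthogonal long roots are permuted by a representative of a Weyl group element
which is a coboundary for the Frobenius map of the extension of degree two or three, so the group contains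
`SL₂(q²)` and `SL₂(q³)`, each commuting with the `SL₂(q)` of the highest root.
-/

set_option autoImplicit false
set_option maxRecDepth 100000
set_option maxHeartbeats 1000000
set_option linter.unusedSectionVars false

namespace CfsgLib.Lie.F4Graph

open Matrix Cfsg.Lie CfsgLib.Lie.Chev CfsgLib.Lie.CoxTorus CfsgLib.Lie.SL2Rel

/-- a root index -/
def rt (k : ℕ) (h : k < chevF4.nroots := by decide +kernel) : Fin chevF4.nroots := ⟨k, h⟩

variable {K : Type*} [Field K] [CharP K 2]

local notation "S2" => Matrix.SpecialLinearGroup (Fin 2) K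

theorem castUnit {c : ℤ} (hc : c = 1 ∨ c = -1) : (c : K) = 1 := by
  rcases hc with rfl | rfl <;> simp [CharTwo.neg_eq]

theorem nU_conj (i : Fin chevF4.rank) (r : Fin chevF4.nroots) (t : K) :
    cF4.G.nU i * cF4.G.xu r t * (cF4.G.nU i)⁻¹ = cF4.G.xu (cF4.G.w i r) t := by
  rw [cF4.G.nU_xu, mul_assoc, mul_inv_cancel, mul_one, castUnit (cF4.G.eta_unit i r), one_mul]

/-- `n` carries the root element of `r` to that of `r'` -/
def Moves (n : GL chevF4.Idx K) (r r' : Fin chevF4.nroots) : Prop :=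
  (∀ t, n * cF4.G.xu r t * n⁻¹ = cF4.G.xu r' t) ∧
    ∀ t, n * cF4.G.xu (cF4.G.negr r) t * n⁻¹ = cF4.G.xu (cF4.G.negr r') t

theorem moves_nU (i : Fin chevF4.rank) (r r' : ℕ) (hr : r < chevF4.nroots) (hr' : r' < chevF4.nroots)
    (h : wF fastF4 i.val r = r' ∧ wF fastF4 i.val (chevF4.negIdx.getD r 0) = chevF4.negIdx.getD r' 0) :
    Moves (K := K) (cF4.G.nU i) ⟨r, hr⟩ ⟨r', hr'⟩ := by
  have e : ∀ a b : Fin chevF4.nroots, wF fastF4 i.val a.val = b.val → cF4.G.w i a = b := fun a b hab =>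
    Fin.ext ((cF4.G.w_eq_wF checksF4 i a).trans hab)
  refine ⟨fun t => ?_, fun t => ?_⟩
  · rw [nU_conj, e ⟨r, hr⟩ ⟨r', hr'⟩ h.1]
  · rw [nU_conj, e _ (cF4.G.negr ⟨r', hr'⟩) (by rw [cF4.G.negr_val, cF4.G.negr_val]; exact h.2)]

theorem Moves.mul {m n : GL chevF4.Idx K} {a b c : Fin chevF4.nroots} (hm : Moves m b c)
    (hn : Moves n a b) : Moves (m * n) a c := by
  refine ⟨fun t => ?_, fun t => ?_⟩
  · rw [← hm.1, ← hn.1]; group
  · rw [← hm.2, ← hn.2]; group

/-- the homomorphism of a root -/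
noncomputable def rH (r : Fin chevF4.nroots) : S2 →* GL chevF4.Idx K :=
  (cF4.G.sl2Fam r).hom (cF4.G.sl2Fam_mult r)

theorem rH_upper (r : Fin chevF4.nroots) (t : K) : rH r (Fam.upper t) = cF4.G.xu r t := by
  rw [rH, Fam.hom_upper]; rfl

theorem rH_lower (r : Fin chevF4.nroots) (t : K) : rH r (Fam.lower t) = cF4.G.xu (cF4.G.negr r) t := by
  rw [rH, Fam.hom_lower]; rfl

theorem rH_mem (r : Fin chevF4.nroots) (g : S2) : rH r g ∈ chevF4.group K := by
  have h : rH r g ∈ (rH (K := K) r).range := ⟨g, rfl⟩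
  rw [rH, Fam.hom_range] at h
  refine (Subgroup.closure_le _).2 ?_ h
  rintro _ (⟨t, rfl⟩ | ⟨t, rfl⟩) <;> exact cF4.G.xu_mem _ _

theorem s2_ext [Finite K] {H : Type*} [Group H] {f g : S2 →* H}
    (hu : ∀ t, f (Fam.upper t) = g (Fam.upper t)) (hl : ∀ t, f (Fam.lower t) = g (Fam.lower t)) : f = g := by
  refine CfsgLib.Char.SingleBond.sl_hom_ext fun i j hij t => ?_
  fin_cases i <;> fin_cases j
  · exact absurd rfl hij
  · convert hu t using 2 <;> · apply Subtype.ext; ext a b; fin_cases a <;> fin_cases b <;>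
      simp [Matrix.SpecialLinearGroup.transvection, Matrix.transvection, Matrix.single, Fam.upper]
  · convert hl t using 2 <;> · apply Subtype.ext; ext a b; fin_cases a <;> fin_cases b <;>
      simp [Matrix.SpecialLinearGroup.transvection, Matrix.transvection, Matrix.single, Fam.lower]
  · exact absurd rfl hij

theorem rH_moves [Finite K] {n : GL chevF4.Idx K} {r r' : Fin chevF4.nroots} (h : Moves n r r') (a : S2) :
    n * rH r a * n⁻¹ = rH r' a := by
  have e : (MulAut.conj n).toMonoidHom.comp (rH r) = rH r' :=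
    s2_ext (fun t => by simp [rH_upper, h.1 t]) (fun t => by simp [rH_lower, h.2 t])
  simpa using congrArg (fun f : S2 →* GL chevF4.Idx K => f a) e

theorem rH_fmap [Finite K] (σ : K →+* K) (r : Fin chevF4.nroots) (a : S2) :
    fmap chevF4 σ (rH r a) = rH r (Matrix.SpecialLinearGroup.map σ a) := by
  have e : (fmap chevF4 σ).comp (rH r) = (rH r).comp (Matrix.SpecialLinearGroup.map σ) := by
    refine s2_ext (fun t => ?_) fun t => ?_
    · rw [MonoidHom.comp_apply, rH_upper, cF4.G.fmap_xu, MonoidHom.comp_apply, ← rH_upper]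
      congr 1
      apply Subtype.ext; ext a b; fin_cases a <;> fin_cases b <;> first | exact (map_one σ).symm | exact (map_zero σ).symm | rfl
    · rw [MonoidHom.comp_apply, rH_lower, cF4.G.fmap_xu, MonoidHom.comp_apply, ← rH_lower]
      congr 1
      apply Subtype.ext; ext a b; fin_cases a <;> fin_cases b <;> first | exact (map_one σ).symm | exact (map_zero σ).symm | rfl
  exact congrArg (fun f : S2 →* GL chevF4.Idx K => f a) e

/-- the root elements of the two roots and their negatives commute -/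
def apartB (a b : ℕ) : Bool :=
  [a, chevF4.negIdx.getD a 0].all fun x => [b, chevF4.negIdx.getD b 0].all fun y =>
    decide (y ≠ x ∧ y ≠ chevF4.negIdx.getD x 0) && (chevF4.commTerms x y).isEmpty

theorem rH_commute {a b : ℕ} (ha : a < chevF4.nroots) (hb : b < chevF4.nroots) (h : apartB a b = true)
    (g g' : S2) : Commute (rH ⟨a, ha⟩ g) (rH ⟨b, hb⟩ g') := by
  simp only [apartB, List.all_eq_true, Bool.and_eq_true, decide_eq_true_eq, List.isEmpty_iff] at h
  have mk : ∀ {x y : Fin chevF4.nroots}, x.val ∈ [a, chevF4.negIdx.getD a 0] →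
      y.val ∈ [b, chevF4.negIdx.getD b 0] → ∀ s t : K, Commute (cF4.G.xu x s) (cF4.G.xu y t) := by
    intro x y hx hy s t
    obtain ⟨⟨n1, n2⟩, n3⟩ := h x.val hx y.val hy
    exact cF4.xu_commute (fun e => n1 (congrArg Fin.val e))
      (fun e => n2 ((congrArg Fin.val e).trans (cF4.G.negr_val x))) n3 s t
  have h1 : rH ⟨a, ha⟩ g ∈ (rH (K := K) ⟨a, ha⟩).range := ⟨g, rfl⟩
  have h2 : rH ⟨b, hb⟩ g' ∈ (rH (K := K) ⟨b, hb⟩).range := ⟨g', rfl⟩
  rw [rH, Fam.hom_range] at h1 h2
  have hle : Subgroup.closure (Set.range (cF4.G.sl2Fam (K := K) ⟨a, ha⟩).x ∪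
      Set.range (cF4.G.sl2Fam (K := K) ⟨a, ha⟩).y) ≤ Subgroup.centralizer (Subgroup.closure
        (Set.range (cF4.G.sl2Fam (K := K) ⟨b, hb⟩).x ∪ Set.range (cF4.G.sl2Fam (K := K) ⟨b, hb⟩).y) :
          Subgroup _) := by
    rw [Subgroup.centralizer_closure, Subgroup.closure_le]
    intro u hu
    rw [SetLike.mem_coe, Subgroup.mem_centralizer_iff]
    intro v hv
    have pa : (⟨a, ha⟩ : Fin chevF4.nroots).val ∈ [a, chevF4.negIdx.getD a 0] := by simp
    have na : (cF4.G.negr ⟨a, ha⟩).val ∈ [a, chevF4.negIdx.getD a 0] := List.mem_cons_of_mem _ (List.mem_singleton.2 (cF4.G.negr_val _))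
    have pb : (⟨b, hb⟩ : Fin chevF4.nroots).val ∈ [b, chevF4.negIdx.getD b 0] := by simp
    have nb : (cF4.G.negr ⟨b, hb⟩).val ∈ [b, chevF4.negIdx.getD b 0] := List.mem_cons_of_mem _ (List.mem_singleton.2 (cF4.G.negr_val _))
    rcases hu with ⟨s, rfl⟩ | ⟨s, rfl⟩ <;> rcases hv with ⟨t, rfl⟩ | ⟨t, rfl⟩
    · exact (mk pa pb s t).eq.symm
    · exact (mk pa nb s t).eq.symm
    · exact (mk na pb s t).eq.symm
    · exact (mk na nb s t).eq.symm
  exact (Subgroup.mem_centralizer_iff.1 (hle h1) _ h2).symm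

theorem center_eq_one {g : S2} (hg : g ∈ Subgroup.center S2) : g = 1 := by
  obtain ⟨c, hc2, hc⟩ := Matrix.SpecialLinearGroup.mem_center_iff.1 hg
  rw [Fintype.card_fin, pow_two] at hc2
  have : c = 1 := by
    rcases mul_self_eq_one_iff.1 hc2 with e | e
    · exact e
    · rw [e, CharTwo.neg_eq]
  refine Subtype.ext ?_
  rw [← hc, this]
  simp

theorem rH_injective [Finite K] (h4 : 4 ≤ Nat.card K) (r : Fin chevF4.nroots) :
    Function.Injective (rH (K := K) r) := by
  classical
  set π : S2 →* Matrix.ProjectiveSpecialLinearGroup (Fin 2) K := QuotientGroup.mk' _ with hπ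
  haveI := (CfsgLib.Perm.Dickson.psl_simple_noncomm (F := K) h4).1
  have hpi : ∀ g : S2, π g = 1 → g = 1 := fun g hg => center_eq_one ((QuotientGroup.eq_one_iff g).1 hg)
  have hn : ((rH (K := K) r).ker.map π).Normal :=
    Subgroup.Normal.map inferInstance π (QuotientGroup.mk'_surjective _)
  rw [← MonoidHom.ker_eq_bot_iff, Subgroup.eq_bot_iff_forall]
  intro g hg
  rcases hn.eq_bot_or_eq_top with h | h
  · have hm : π g ∈ (rH (K := K) r).ker.map π := ⟨g, hg, rfl⟩
    rw [h, Subgroup.mem_bot] at hm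
    exact hpi g hm
  · exfalso
    obtain ⟨g', hg', e⟩ := (h ▸ Subgroup.mem_top _ : π (Fam.upper 1) ∈ (rH (K := K) r).ker.map π)
    have e' : g'⁻¹ * Fam.upper (1 : K) = 1 := hpi _ (by rw [map_mul, map_inv, e, inv_mul_cancel])
    have h1 : cF4.G.xu r (1 : K) = 1 := by
      rw [← rH_upper, ← inv_mul_eq_one.1 e']
      exact hg'
    exact one_ne_zero ((cF4.G.xu_eq_one_iff r (1 : K)).1 h1)

/-- a product in commuting factors is trivial only if the first is -/
theorem eq_one_of_prod [Finite K] (h4 : 4 ≤ Nat.card K) (r : Fin chevF4.nroots) {a : S2} {y : GL chevF4.Idx K}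
    (hy : ∀ b, Commute (rH r b) y) (h : rH r a * y = 1) : a = 1 := by
  refine center_eq_one (Subgroup.mem_center_iff.2 fun b => rH_injective h4 r ?_)
  rw [map_mul, map_mul, eq_inv_of_mul_eq_one_left h]
  exact (hy b).inv_right.eq

section Twist

variable {F : Type*} [Field F] [Fintype F] [Fintype K] (σ : K →+* K) (ι : F →+* K)
  (hfix : ∀ a, σ a = a → ∃ b, ι b = a) (hι : ∀ b, σ (ι b) = ι b)

include hfix

/-- descending an element fixed by the twisted Frobenius map -/
theorem descend {c n X : GL chevF4.Idx K} (hc : c ∈ chevF4.group K) (hX : X ∈ chevF4.group K)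
    (hcn : fmap chevF4 σ c = c * n) (hσX : n * fmap chevF4 σ X * n⁻¹ = X) :
    ∃ g : ↥(chevF4.group F), orderOf g = orderOf X := by
  have hY : fmap chevF4 σ (c * X * c⁻¹) = c * X * c⁻¹ := by
    rw [map_mul, map_mul, map_inv, hcn]
    conv_rhs => rw [← hσX]
    group
  obtain ⟨g, hg, e⟩ := cF4.fixed_mem_range σ ι hfix
    (cF4.G.torθ_injective kerF4 kerF4_ok (by rw [show kerF4.k = 0 from rfl, pow_zero]))
    (mul_mem (mul_mem hc hX) (inv_mem hc)) hY
  refine ⟨⟨g, hg⟩, ?_⟩
  rw [← Subgroup.orderOf_coe, ← orderOf_injective _ (fmap_injective ι) g, e,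
    show c * X * c⁻¹ = (MulAut.conj c).toMonoidHom X by simp]
  exact orderOf_injective _ (MulAut.conj c).injective X

end Twist

section SL3

open CfsgLib.Char.SingleBond

/-- the roots of the short `A₂` -/
def tri : Fin 3 → Fin 3 → ℕ := ![![0, 33, 34], ![14, 0, 27], ![13, 20, 0]]

/-- the table for `StRel` -/
def triChk : Bool :=
  (List.finRange 3).all fun i => (List.finRange 3).all fun j => (List.finRange 3).all fun k =>
    decide (i = j) || (decide (tri i j < chevF4.nroots) &&
      ((List.finRange 3).all fun l => decide (k = l) || decide (i = l) || decide (j = k) ||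
        (decide (i = k) && decide (j = l)) ||
        (decide (tri k l ≠ tri i j ∧ tri k l ≠ chevF4.negIdx.getD (tri i j) 0) &&
          (chevF4.commTerms (tri i j) (tri k l)).isEmpty)) &&
      (decide (j = k) || decide (i = k) ||
        (decide (tri i j ≠ tri j k ∧ tri i j ≠ chevF4.negIdx.getD (tri j k) 0) &&
          match chevF4.commTerms (tri j k) (tri i j) with
          | [(e, c, m, n)] => decide (e = tri i k ∧ (c = 1 ∨ c = -1) ∧ m = 1 ∧ n = 1)
          | _ => false)))

theorem triChk_true : triChk = true := by decide +kernel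

theorem tri_facts {i j : Fin 3} (hij : i ≠ j) : tri i j < chevF4.nroots ∧
    (∀ k l, k ≠ l → i ≠ l → j ≠ k → (i = k ∧ j = l) ∨ ((tri k l ≠ tri i j ∧
      tri k l ≠ chevF4.negIdx.getD (tri i j) 0) ∧ chevF4.commTerms (tri i j) (tri k l) = [])) ∧
    ∀ k, j ≠ k → i ≠ k → (tri i j ≠ tri j k ∧ tri i j ≠ chevF4.negIdx.getD (tri j k) 0) ∧
      ∃ c : ℤ, (c = 1 ∨ c = -1) ∧ chevF4.commTerms (tri j k) (tri i j) = [(tri i k, c, 1, 1)] := by
  have h := triChk_true
  simp only [triChk, List.all_eq_true, List.mem_finRange, forall_true_left, Bool.or_eq_true,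
    Bool.and_eq_true, decide_eq_true_eq, List.isEmpty_iff] at h
  have h' := fun k => (h i j k).resolve_left hij
  refine ⟨(h' i).1.1, fun k l hkl hil hjk => ?_, fun k hjk hik => ?_⟩
  · rcases (h' k).1.2 l with (((e | e) | e) | e) | e
    · exact absurd e hkl
    · exact absurd e hil
    · exact absurd e hjk
    · exact Or.inl e
    · exact Or.inr e
  · rcases (h' k).2 with (e | e) | ⟨e, e'⟩
    · exact absurd e hjk
    · exact absurd e hik
    · refine ⟨e, ?_⟩
      split at e'
      · next x c m n hl =>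
        simp only [decide_eq_true_eq] at e'
        obtain ⟨rfl, hc, rfl, rfl⟩ := e'
        exact ⟨c, hc, hl⟩
      · exact absurd e' Bool.false_ne_true

/-- the root elements of the short `A₂` -/
noncomputable def triX (i j : Fin 3) (t : K) : GL chevF4.Idx K :=
  if h : i ≠ j then cF4.G.xu ⟨tri i j, (tri_facts h).1⟩ t else 1

theorem triX_eq {i j : Fin 3} (h : i ≠ j) (t : K) :
    triX i j t = cF4.G.xu ⟨tri i j, (tri_facts h).1⟩ t := dif_pos h

theorem triX_rel : StRel (triX (K := K)) where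
  add {i j} h t u := by simp only [triX_eq h, cF4.G.xu_add]
  comm {i j k l} hij hkl hil hjk t u := by
    rw [triX_eq hij, triX_eq hkl]
    rcases (tri_facts hij).2.1 k l hkl hil hjk with ⟨rfl, rfl⟩ | ⟨⟨n1, n2⟩, n3⟩
    · rw [← cF4.G.xu_add, ← cF4.G.xu_add, add_comm]
    · exact (cF4.xu_commute (r := ⟨tri i j, (tri_facts hij).1⟩) (s := ⟨tri k l, (tri_facts hkl).1⟩)
        (fun e => n1 (congrArg Fin.val e))
        (fun e => n2 ((congrArg Fin.val e).trans (cF4.G.negr_val _))) n3 t u).eq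
  prod {i j k} hij hjk hik t u := by
    obtain ⟨⟨n1, n2⟩, c, hc, hl⟩ := (tri_facts hij).2.2 k hjk hik
    rw [triX_eq hij, triX_eq hjk, triX_eq hik]
    set A := cF4.G.xu ⟨tri i j, (tri_facts hij).1⟩ t
    set B := cF4.G.xu ⟨tri j k, (tri_facts hjk).1⟩ u
    have h1 := cF4.commAt (R := K) ⟨tri j k, (tri_facts hjk).1⟩ ⟨tri i j, (tri_facts hij).1⟩
      (fun e => n1 (congrArg Fin.val e))
      (fun e => n2 ((congrArg Fin.val e).trans (cF4.G.negr_val _))) u t
    set W := cF4.G.xu ⟨tri i k, (tri_facts hik).1⟩ (t * u)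
    have h2 : A * B = B * A * W := by
      refine Units.ext ?_
      unfold CommAt at h1
      rw [Units.val_mul, Units.val_mul, Units.val_mul]
      refine h1.trans (congrArg _ ?_)
      show wordR K chevF4 (cwR chevF4 _ _ u t) = _
      simp only [cwR, hl, List.map_cons, List.map_nil, wordR, List.prod_cons, List.prod_nil, mul_one,
        pow_one, xN, dif_pos (tri_facts hik).1, castUnit hc, one_mul, CharTwo.neg_eq]
      rw [mul_comm u t]
      rfl
    have hWA : Commute A W := by
      rcases (tri_facts hij).2.1 i k hik hik hij.symm with ⟨-, e⟩ | ⟨⟨m1, m2⟩, m3⟩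
      · exact absurd e hjk
      · exact cF4.xu_commute (r := ⟨tri i j, (tri_facts hij).1⟩) (s := ⟨tri i k, (tri_facts hik).1⟩)
          (fun e => m1 (congrArg Fin.val e))
          (fun e => m2 ((congrArg Fin.val e).trans (cF4.G.negr_val _))) m3 t (t * u)
    have hWB : Commute B W := by
      rcases (tri_facts hjk).2.1 i k hik hjk hik.symm with ⟨e, -⟩ | ⟨⟨m1, m2⟩, m3⟩
      · exact absurd e hij.symm
      · exact cF4.xu_commute (r := ⟨tri j k, (tri_facts hjk).1⟩) (s := ⟨tri i k, (tri_facts hik).1⟩)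
          (fun e => m1 (congrArg Fin.val e))
          (fun e => m2 ((congrArg Fin.val e).trans (cF4.G.negr_val _))) m3 u (t * u)
    rw [h2, show B * A * W * A⁻¹ * B⁻¹ = B * (A * W * A⁻¹) * B⁻¹ by group, hWA.eq, mul_inv_cancel_right,
      hWB.eq, mul_inv_cancel_right]

theorem exists_sl3 [Finite K] : ∃ Φ : Matrix.SpecialLinearGroup (Fin 3) K →* GL chevF4.Idx K,
    ∀ i j (h : i ≠ j) (t : K), Φ (Matrix.SpecialLinearGroup.transvection h t) = triX i j t :=
  StRel.exists_hom le_rfl triX_rel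

end SL3

end CfsgLib.Lie.F4Graph
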