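import Cfsg.Agent.Lib.Lie.AltSection.Torus
import Cfsg.Agent.Lib.Lie.AltSection.WeylFacts
import Cfsg.Agent.Lib.Lie.Chev.Tw.Frob

/-!
# Orders of commuting semisimple elements of `F₄(q)`

An element of order `r s` gives, over a field where both parts are diagonal, one element of the Weyl group
of which `q` is an eigenvalue modulo `r` and modulo `s`; the table of the Weyl group shows that the orders
`3`, `4`, `6` of `q` exclude one another.
-/

set_option autoImplicit false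
set_option maxRecDepth 100000
set_option maxHeartbeats 1000000

namespace CfsgLib.Lie.F4Graph

open Cfsg.Lie CfsgLib.Lie.Chev CfsgLib.Lie.CoxTorus CfsgLib.Lie.Homocyclic CfsgLib.Lie.AltSection
open scoped MatrixGroups

/-- `rho (π ^ a r) + rho (π ^ b r) = rho (π ^ c r) + rho (π ^ d r)` for the root `r` -/
noncomputable def chkFour (D : ChevalleyDatum) (f : Fast) (row r a b c d : ℕ) : Bool :=
  allLt D.rank fun j =>
    intBeq (Int.add ((f.rho.get (itD row a r)).getD j 0) ((f.rho.get (itD row b r)).getD j 0))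
      (Int.add ((f.rho.get (itD row c r)).getD j 0) ((f.rho.get (itD row d r)).getD j 0))

/-- a property of the packed permutation at every fundamental root -/
noncomputable def onSimples (D : ChevalleyDatum) (f : Fast) (p : ℕ → Bool) : Bool :=
  allLt D.rank fun i => p (f.simples.get i)

theorem four_of_chk {D : ChevalleyDatum} {f : Fast} {π : Equiv.Perm (Fin D.nroots)} {row a b c d : ℕ}
    (h : ∀ r : Fin D.nroots, (π r).val = digit row r.val) (r : Fin D.nroots)
    (hc : chkFour D f row r.val a b c d = true) :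
    rhoD D f ((π ^ a) r) + rhoD D f ((π ^ b) r) = rhoD D f ((π ^ c) r) + rhoD D f ((π ^ d) r) := by
  funext j
  simp only [Pi.add_apply, rhoD, itD_eq h]
  exact intBeq_spec (allLt_spec hc j.val j.isLt)

theorem sixthF4 : (allLt statesF4.m fun k =>
    onSimples chevF4 fastF4 (fun r => Nat.beq (itD (statesF4.P.get k) 8 r) r) ||
      chkTwelve chevF4 fastF4 (statesF4.P.get k) ||
      onSimples chevF4 fastF4 (fun r => chkFour chevF4 fastF4 (statesF4.P.get k) r 4 3 1 0) ||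
      onSimples chevF4 fastF4 (fun r => chkFour chevF4 fastF4 (statesF4.P.get k) r 4 1 3 0)) = true := by
  decide +kernel

/-- the powers of `q` through which `π` can act -/
def Rel (π : Equiv.Perm (Fin chevF4.nroots)) : Prop :=
  ((∀ i, (π ^ 8) (cF4.G.simp' i) = cF4.G.simp' i) ∨
    (∀ t, cF4.G.rho ((π ^ 4) t) + cF4.G.rho t = cF4.G.rho ((π ^ 2) t)) ∨
    (∀ i, cF4.G.rho ((π ^ 4) (cF4.G.simp' i)) + cF4.G.rho ((π ^ 3) (cF4.G.simp' i)) =
      cF4.G.rho ((π ^ 1) (cF4.G.simp' i)) + cF4.G.rho ((π ^ 0) (cF4.G.simp' i))) ∨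
    ∀ i, cF4.G.rho ((π ^ 4) (cF4.G.simp' i)) + cF4.G.rho ((π ^ 1) (cF4.G.simp' i)) =
      cF4.G.rho ((π ^ 3) (cF4.G.simp' i)) + cF4.G.rho ((π ^ 0) (cF4.G.simp' i))) ∧
  (π ^ 8 = 1 ∨ π ^ 6 = 1 ∨ ∀ t, cF4.G.rho ((π ^ 4) t) + cF4.G.rho t = cF4.G.rho ((π ^ 2) t))

theorem rel_of_mem {π : Equiv.Perm (Fin chevF4.nroots)} (hπ : π ∈ cF4.G.Wg) : Rel π := by
  refine ⟨?_, orders_F4 hπ⟩
  obtain ⟨k, hk, h⟩ := exists_state cF4.G checksF4 closedF4 hπ
  have := allLt_spec sixthF4 k hk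
  simp only [Bool.or_eq_true] at this
  have at' : ∀ {P : ℕ → Bool}, onSimples chevF4 fastF4 P = true → ∀ i, P (cF4.G.simp' i).val = true :=
    fun {P} hP i => by
      rw [← cF4.G.simples_eq' checksF4]
      exact allLt_spec hP i.val i.isLt
  rcases this with ((h8 | h12) | hp) | hm
  · exact Or.inl fun i => Fin.ext ((itD_eq h 8 _).trans (Nat.eq_of_beq_eq_true (at' h8 i)))
  · exact Or.inr (Or.inl fun r => twelve_of_chk h h12 r)
  · exact Or.inr (Or.inr (Or.inl fun i => four_of_chk h _ (at' hp i)))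
  · exact Or.inr (Or.inr (Or.inr fun i => four_of_chk h _ (at' hm i)))

section Field

variable {K : Type*} [Field K] {π : Equiv.Perm (Fin chevF4.nroots)} {q : ℕ} {v : Fin chevF4.rank → Kˣ}
  (h : ∀ t, cF4.G.chi v (cF4.G.rho (π t)) = cF4.G.chi v (cF4.G.rho t) ^ q)

include h

theorem chi_iter (j : ℕ) (t : Fin chevF4.nroots) :
    cF4.G.chi v (cF4.G.rho ((π ^ j) t)) = cF4.G.chi v (cF4.G.rho t) ^ q ^ j := by
  induction j with
  | zero => simp
  | succ j ih => rw [pow_succ', Equiv.Perm.mul_apply, h, ih, ← pow_mul, ← pow_succ]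

theorem exp_eq {r : ℕ} (hv : orderOf v = r) {A B : ℕ}
    (hab : ∀ i, cF4.G.chi v (cF4.G.rho (cF4.G.simp' i)) ^ A = cF4.G.chi v (cF4.G.rho (cF4.G.simp' i)) ^ B) :
    (A : ZMod r) = (B : ZMod r) := by
  rw [ZMod.natCast_eq_natCast_iff, ← hv, ← pow_eq_pow_iff_modEq]
  funext k
  have := hab k
  rwa [cF4.G.rho_simp, cF4.G.chi_single] at this

/-- the equations satisfied by `q` -/
theorem q_one {r : ℕ} (hv : orderOf v = r) {m : ℕ} (hm : ∀ i, (π ^ m) (cF4.G.simp' i) = cF4.G.simp' i) :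
    (q : ZMod r) ^ m = 1 := by
  have e := exp_eq h hv (A := q ^ m) (B := 1) fun i => by rw [← chi_iter h, hm, pow_one]
  simpa using e

theorem q_twelve {r : ℕ} (hv : orderOf v = r)
    (h12 : ∀ t, cF4.G.rho ((π ^ 4) t) + cF4.G.rho t = cF4.G.rho ((π ^ 2) t)) :
    (q : ZMod r) ^ 4 + 1 = (q : ZMod r) ^ 2 := by
  have e := exp_eq h hv (A := q ^ 4 + 1) (B := q ^ 2) fun i => by
    rw [pow_add, pow_one, ← chi_iter h, ← chi_iter h, ← cF4.G.chi_add, h12]
  push_cast at e
  exact e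

theorem q_four {r : ℕ} (hv : orderOf v = r) {a b c d : ℕ}
    (hh : ∀ i, cF4.G.rho ((π ^ a) (cF4.G.simp' i)) + cF4.G.rho ((π ^ b) (cF4.G.simp' i)) =
      cF4.G.rho ((π ^ c) (cF4.G.simp' i)) + cF4.G.rho ((π ^ d) (cF4.G.simp' i))) :
    (q : ZMod r) ^ a + (q : ZMod r) ^ b = (q : ZMod r) ^ c + (q : ZMod r) ^ d := by
  have e := exp_eq h hv (A := q ^ a + q ^ b) (B := q ^ c + q ^ d) fun i => by
    rw [pow_add, pow_add, ← chi_iter h, ← chi_iter h, ← chi_iter h, ← chi_iter h, ← cF4.G.chi_add,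
      ← cF4.G.chi_add, hh]
  push_cast at e
  exact e

end Field

section Order

variable {r : ℕ} [Fact r.Prime] (h5 : 5 ≤ r) {x : ZMod r}

include h5

theorem small_ne {m : ℕ} (hm : m ≠ 0) (hlt : m < 5) : (m : ZMod r) ≠ 0 := fun h => by
  have := Nat.le_of_dvd (Nat.pos_of_ne_zero hm) ((ZMod.natCast_eq_zero_iff _ _).1 h)
  omega

theorem no_twelve (h : x ^ 4 + 1 = x ^ 2) {k : ℕ} (hk : orderOf x = k)
    (hk' : k = 3 ∨ k = 4 ∨ k = 6) : False := by
  have h6 : x ^ 6 = -1 := by linear_combination (x ^ 2 + 1) * h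
  have h2 : (2 : ZMod r) ≠ 0 := by exact_mod_cast small_ne h5 (m := 2) (by norm_num) (by norm_num)
  have h3 : (3 : ZMod r) ≠ 0 := by exact_mod_cast small_ne h5 (m := 3) (by norm_num) (by norm_num)
  have e := pow_orderOf_eq_one x
  rw [hk] at e
  rcases hk' with rfl | rfl | rfl
  · exact h2 (by linear_combination h6 - (x ^ 3 + 1) * e)
  · rw [e] at h
    have h4 : x ^ 2 = 2 := by linear_combination -h
    exact h3 (by linear_combination e - (x ^ 2 + 2) * h4)
  · exact h2 (by linear_combination h6 - e)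

/-- a polynomial killing `6` among the orders `3`, `6` -/
theorem ne_six (h : x ^ 4 + x ^ 3 = x + 1) : orderOf x ≠ 6 := fun hk => by
  have hp : (x ^ 3 - 1) * (x + 1) = 0 := by linear_combination h
  rcases mul_eq_zero.1 hp with e | e
  · have := orderOf_dvd_of_pow_eq_one (n := 3) (sub_eq_zero.1 e)
    rw [hk] at this
    norm_num at this
  · have := orderOf_dvd_of_pow_eq_one (x := x) (n := 2) (by linear_combination (x - 1) * e)
    rw [hk] at this
    norm_num at this

theorem ne_three (h : x ^ 4 + x = x ^ 3 + 1) : orderOf x ≠ 3 := fun hk => by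
  have hp : (x ^ 3 + 1) * (x - 1) = 0 := by linear_combination h
  have e3 := pow_orderOf_eq_one x
  rw [hk] at e3
  rcases mul_eq_zero.1 hp with e | e
  · rw [e3] at e
    exact small_ne h5 (m := 2) (by norm_num) (by norm_num) (by exact_mod_cast (show (2 : ZMod r) = 0 by linear_combination e))
  · have : x = 1 := sub_eq_zero.1 e
    rw [this, orderOf_one] at hk
    norm_num at hk

omit h5 in
theorem not_pow {k m : ℕ} (hk : orderOf x = k) (hm : x ^ m = 1) : k ∣ m := hk ▸ orderOf_dvd_of_pow_eq_one hm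

end Order

/-- the excluded pairs -/
theorem excluded {r s : ℕ} [Fact r.Prime] [Fact s.Prime] (hr5 : 5 ≤ r) (hs5 : 5 ≤ s)
    {K : Type*} [Field K] {π : Equiv.Perm (Fin chevF4.nroots)} (hπ : Rel π) {q : ℕ}
    {v w : Fin chevF4.rank → Kˣ}
    (hv : ∀ t, cF4.G.chi v (cF4.G.rho (π t)) = cF4.G.chi v (cF4.G.rho t) ^ q)
    (hw : ∀ t, cF4.G.chi w (cF4.G.rho (π t)) = cF4.G.chi w (cF4.G.rho t) ^ q)
    (ov : orderOf v = r) (ow : orderOf w = s)
    (hcase : (orderOf (q : ZMod r) = 3 ∧ orderOf (q : ZMod s) = 4) ∨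
      (orderOf (q : ZMod r) = 3 ∧ orderOf (q : ZMod s) = 6) ∨
      (orderOf (q : ZMod r) = 4 ∧ orderOf (q : ZMod s) = 6)) : False := by
  have fix : ∀ m, π ^ m = 1 → ∀ i, (π ^ m) (cF4.G.simp' i) = cF4.G.simp' i := fun m hm i => by
    rw [hm, Equiv.Perm.one_apply]
  rcases hcase with ⟨a, b⟩ | ⟨a, b⟩ | ⟨a, b⟩
  · rcases hπ.2 with h | h | h
    · have := not_pow a (q_one hv ov (fix 8 h)); norm_num at this
    · have := not_pow b (q_one hw ow (fix 6 h)); norm_num at this
    · exact no_twelve hr5 (q_twelve hv ov h) a (Or.inl rfl)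
  · rcases hπ.1 with h | h | h | h
    · have := not_pow a (q_one hv ov h); norm_num at this
    · exact no_twelve hr5 (q_twelve hv ov h) a (Or.inl rfl)
    · exact ne_six hs5 (by simpa using q_four hw ow h) b
    · exact ne_three hr5 (by simpa using q_four hv ov h) a
  · rcases hπ.2 with h | h | h
    · have := not_pow b (q_one hw ow (fix 8 h)); norm_num at this
    · have := not_pow a (q_one hv ov (fix 6 h)); norm_num at this
    · exact no_twelve hr5 (q_twelve hv ov h) a (Or.inr (Or.inl rfl))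

/-- no element of order `r s` -/
theorem no_order {F : Type*} [Field F] [Fintype F] [CharP F 2] {r s : ℕ} (hr : r.Prime) (hs : s.Prime)
    (hrs : r ≠ s) (hr5 : 5 ≤ r) (hs5 : 5 ≤ s)
    (hcase : (orderOf ((Fintype.card F : ℕ) : ZMod r) = 3 ∧ orderOf ((Fintype.card F : ℕ) : ZMod s) = 4) ∨
      (orderOf ((Fintype.card F : ℕ) : ZMod r) = 3 ∧ orderOf ((Fintype.card F : ℕ) : ZMod s) = 6) ∨
      (orderOf ((Fintype.card F : ℕ) : ZMod r) = 4 ∧ orderOf ((Fintype.card F : ℕ) : ZMod s) = 6)) :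
    ¬ ∃ x : ↥(chevF4.group F), orderOf x = r * s := by
  classical
  rintro ⟨g, hg⟩
  haveI := Fact.mk hr
  haveI := Fact.mk hs
  haveI : Fact (Nat.Prime 2) := ⟨Nat.prime_two⟩
  obtain ⟨n, -, hn⟩ := FiniteField.card F 2
  set q := Fintype.card F with hq
  have hcop : q.Coprime (r * s) := by
    rw [hn]
    refine Nat.Coprime.pow_left _ (Nat.Coprime.mul_right ?_ ?_) <;>
      refine (Nat.coprime_primes Nat.prime_two ‹_›).2 ?_ <;> omega
  obtain ⟨K, iK, iKF, ι, hK⟩ := exists_field (Nat.mul_pos hr.pos hs.pos) hcop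
  haveI : CharP K 2 := charP_of_injective_ringHom ι.injective 2
  have hK' : ∀ t, t ∣ r * s → (Fintype.card K : ZMod t) = 1 := fun t ht => by
    have h1 : Fintype.card K ≡ 1 [MOD r * s] := by rwa [← ZMod.natCast_eq_natCast_iff, Nat.cast_one]
    rw [← Nat.cast_one, ZMod.natCast_eq_natCast_iff]
    exact h1.of_dvd ht
  let σ : K →+* K := iterateFrobenius K 2 n
  have hσ : ∀ a : K, σ a = a ^ q := fun a => by rw [hn]; exact iterateFrobenius_def _ _ a
  have hσι : σ.comp ι = ι := RingHom.ext fun a => by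
    show σ (ι a) = ι a
    rw [hσ, ← map_pow, hq, FiniteField.pow_card]
  set x := fmap chevF4 ι ((g : GL chevF4.Idx F) ^ s) with hx
  set y := fmap chevF4 ι ((g : GL chevF4.Idx F) ^ r) with hy
  have og : orderOf (fmap chevF4 ι (g : GL chevF4.Idx F)) = r * s := by
    rw [orderOf_injective _ (fmap_injective ι), Subgroup.orderOf_coe, hg]
  have ox : orderOf x = r := by
    rw [hx, map_pow, orderOf_pow' _ hs.ne_zero, og, Nat.gcd_eq_right (dvd_mul_left s r),
      Nat.mul_div_cancel _ hs.pos]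
  have oy : orderOf y = s := by
    rw [hy, map_pow, orderOf_pow' _ hr.ne_zero, og, Nat.gcd_eq_right (dvd_mul_right r s),
      Nat.mul_div_cancel_left _ hr.pos]
  have hxG : x ∈ chevF4.group K := cF4.G.fmap_mem_group ι (pow_mem g.2 s)
  have hyG : y ∈ chevF4.group K := cF4.G.fmap_mem_group ι (pow_mem g.2 r)
  have hdgb : ∀ i : Fin chevF4.rank, vecOfList [2, 6, 8, 12] i = 2 ∨ vecOfList [2, 6, 8, 12] i = 6 ∨
      vecOfList [2, 6, 8, 12] i = 8 ∨ vecOfList [2, 6, 8, 12] i = 12 := by decide +kernel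
  have hdeg : ∀ p : ℕ, p.Prime → 5 ≤ p → ∀ i : Fin chevF4.rank, ¬ p ∣ vecOfList [2, 6, 8, 12] i := by
    intro p hp h5 i hd
    have h24 : p ∣ 24 := by
      refine hd.trans ?_
      rcases hdgb i with e | e | e | e <;> rw [e] <;> norm_num
    have := Nat.le_of_dvd (by norm_num) h24
    interval_cases p <;> norm_num at *
  have hPg : ∀ z : GL chevF4.Idx K, ∀ {p : ℕ}, orderOf z = p → IsPGroup p (Subgroup.zpowers z) :=
    fun z p hz w => ⟨1, by
      refine orderOf_dvd_iff_pow_eq_one.1 ?_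
      rw [pow_one, ← hz]
      exact (orderOf_dvd_natCard w).trans (Nat.card_zpowers z).dvd⟩
  have hcomm : Commute x y := by
    rw [hx, hy, map_pow, map_pow]; exact (Commute.refl _).pow_pow _ _
  obtain ⟨c, hc, hdiag⟩ := exists_conj_diag_pair cF4 kerF4_ok degF4 (r := r) (s := s)
    (show ¬ r ∣ kerF4.d from fun hd => hr.ne_one (Nat.dvd_one.1 hd)) (hdeg r hr hr5) (hdeg s hs hs5)
    (hK' r (dvd_mul_right r s)) (hK' s (dvd_mul_left s r))
    (Subgroup.zpowers_le.2 hxG) (Subgroup.zpowers_le.2 hyG) (hPg x ox) (hPg y oy) (by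
      rintro a ⟨i, rfl⟩ b ⟨j, rfl⟩
      exact (hcomm.zpow_zpow i j).eq)
  set m := c⁻¹ * fmap chevF4 σ c with hm
  have hmG : m ∈ chevF4.group K := mul_mem (inv_mem hc) (cF4.G.fmap_mem_group σ hc)
  obtain ⟨π, hπ, hπc⟩ := twist_common cF4 hmG
  have key : ∀ z, z ∈ Subgroup.zpowers x ⊔ Subgroup.zpowers y → fmap chevF4 σ z = z →
      ∃ v : Fin chevF4.rank → Kˣ, orderOf v = orderOf z ∧
        ∀ t, cF4.G.chi v (cF4.G.rho (π t)) = cF4.G.chi v (cF4.G.rho t) ^ q := by
    intro z hz hσz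
    obtain ⟨v, hv⟩ := cF4.G.exists_tor (hdiag z hz)
    refine ⟨v, ?_, fun t => ?_⟩
    · have e : orderOf (cF4.G.tor v) = orderOf z := by
        rw [← hv, show c⁻¹ * z * c = MulAut.conj c⁻¹ z by simp]
        exact orderOf_injective (MulAut.conj c⁻¹).toMonoidHom (MulAut.conj c⁻¹).injective z
      rw [← e, orderOf_injective _ (fun a b hab => tor_inj cF4 hab)]
    · have hσv : fmap chevF4 σ (cF4.G.tor v) = cF4.G.tor (fun i => v i ^ q) := by
        rw [cF4.G.fmap_tor]
        exact congrArg _ (funext fun i => Units.ext (by simpa using hσ (v i : K)))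
      have hq1 : m * cF4.G.tor (fun i => v i ^ q) = cF4.G.tor v * m := by
        rw [← hσv, ← hv, map_mul, map_mul, map_inv, hσz, hm]; group
      have := hπc (fun i => v i ^ q) v (hσv ▸ cF4.G.fmap_mem_H σ (hv ▸ hdiag z hz)) (hv ▸ hdiag z hz) hq1 t
      rw [this]
      simp only [Good.chi]
      rw [← Finset.prod_pow]
      exact Finset.prod_congr rfl fun i _ => by
        rw [← zpow_natCast, ← zpow_mul, mul_comm, zpow_mul, zpow_natCast]
  have hσfix : ∀ z : GL chevF4.Idx F, fmap chevF4 σ (fmap chevF4 ι z) = fmap chevF4 ι z := fun z => by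
    rw [fmap_fmap, hσι]
  obtain ⟨v, ov, hv⟩ := key x (Subgroup.mem_sup_left (Subgroup.mem_zpowers x)) (hσfix _)
  obtain ⟨w, ow, hw⟩ := key y (Subgroup.mem_sup_right (Subgroup.mem_zpowers y)) (hσfix _)
  exact excluded hr5 hs5 (rel_of_mem hπ) hv hw (ov.trans ox) (ow.trans oy) hcase

end CfsgLib.Lie.F4Graph
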